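import Cfsg.Agent.H492.HT.SporThree
import Cfsg.Agent.H720.HT.Bridge

/-!
# S4933, the rows `p = 3` of `Fi22`, `Fi23`, `Fi24'`, `B`, `M` (vacuous)
-/

set_option autoImplicit false

namespace Cfsg.Agent.H492.HT

open Cfsg Cfsg.Agent.H720.HT
open Cfsg.Agent.H316.HT (Row)

universe u

theorem row3_fi22 {S : Type u} [Group S] (h : Spor.IsoFi22 S) : Row 3 S := row_of_dd Nat.prime_three (dd3_fi22 h)

theorem row3_fi23 {S : Type u} [Group S] (h : Spor.IsoFi23 S) : Row 3 S := row_of_dd Nat.prime_three (dd3_fi23 h)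

theorem row3_fi24' {S : Type u} [Group S] (h : Spor.IsoFi24' S) : Row 3 S := row_of_dd Nat.prime_three (dd3_fi24 h)

theorem row3_b {S : Type u} [Group S] (h : Spor.IsoB S) : Row 3 S := row_of_dd Nat.prime_three (dd3_b h)

theorem row3_m {S : Type u} [Group S] (h : Spor.IsoM S) : Row 3 S := row_of_dd Nat.prime_three (dd3_m h)

end Cfsg.Agent.H492.HT
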