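import Cfsg.Prelude.Def_Classical
import Cfsg.Agent.H720.HT.DD

/-!
# S4933: the group `PΩ₇(3)` has a `3`-subgroup of derived length at least 3
-/

set_option autoImplicit false

namespace Cfsg.Agent.H492.HT.Omega

open Cfsg Subgroup Cfsg.Agent.H720.HT
open scoped commutatorElement Matrix

abbrev J := Unit ⊕ (Fin 3 ⊕ Fin 3)

abbrev M := Matrix J J (ZMod 3)

/-- the order `x₁ < x₂ < x₃ < x₀ < y₃ < y₂ < y₁` of the coordinates -/
def ix : J → ℕ
  | .inl _ => 3
  | .inr (.inl i) => i.1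
  | .inr (.inr i) => 6 - i.1

theorem ix_le (i : J) : ix i ≤ 6 := by revert i; decide

/-- the identity matrix with the listed entries added -/
def mk (l : List (ℕ × ℕ × ZMod 3)) : M := fun i j =>
  (if i = j then 1 else 0) + ((l.filter (fun x => x.1 = ix i ∧ x.2.1 = ix j)).map (fun x => x.2.2)).sum

/-- the Gram matrix -/
def gram : M := fun i j => if ix i + ix j = 6 then (if ix i = 3 then 1 else 2) else 0

theorem quad_eq (v : J → ZMod 3) : quadFormOdd 3 (ZMod 3) v = v ⬝ᵥ (gram *ᵥ v) := by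
  have e4 : (2 : ZMod 3) = -1 := by decide
  simp only [quadFormOdd, dotProduct, Matrix.mulVec, Fintype.sum_sum_type, Fin.sum_univ_three, Finset.univ_unique,
    Finset.sum_singleton, gram, ix]
  simp [e4]
  ring_nf
  have e3 : ∀ x : ZMod 3, x * 2 = -x := by decide
  simp only [e3]
  ring

abbrev O := isometryGroup (ZMod 3) (quadFormOdd 3 (ZMod 3))

abbrev W := Omega (ZMod 3) (quadFormOdd 3 (ZMod 3))

theorem mem_O (g : Matrix.GeneralLinearGroup J (ZMod 3)) (h : (g : M)ᵀ * (gram * (g : M)) = gram) : g ∈ O := by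
  intro v _
  show quadFormOdd 3 (ZMod 3) ((g : M) *ᵥ v) = quadFormOdd 3 (ZMod 3) v
  have e : v ⬝ᵥ (gram *ᵥ v) = v ⬝ᵥ (((g : M)ᵀ * (gram * (g : M))) *ᵥ v) := by rw [h]
  rw [quad_eq, quad_eq, e, ← Matrix.mulVec_mulVec, ← Matrix.mulVec_mulVec, Matrix.dotProduct_mulVec v,
    Matrix.vecMul_transpose]

/-- the matrix with given entries and given entries of the inverse -/
def gl (l m : List (ℕ × ℕ × ZMod 3)) (h : mk l * mk m = 1) (h' : mk m * mk l = 1) :
    Matrix.GeneralLinearGroup J (ZMod 3) := ⟨mk l, mk m, h, h'⟩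

def a0 := gl [(0,1,1),(5,6,-1)] [(0,1,-1),(5,6,1)] (by decide +kernel) (by decide +kernel)
def b0 := gl [(1,2,1),(4,5,-1)] [(1,2,-1),(4,5,1)] (by decide +kernel) (by decide +kernel)
def c0 := gl [(3,4,1),(2,3,1),(2,4,-1)] [(3,4,-1),(2,3,-1),(2,4,-1)] (by decide +kernel) (by decide +kernel)
def k0 := gl [(2,0,1),(6,4,-1)] [(2,0,-1),(6,4,1)] (by decide +kernel) (by decide +kernel)
def h1 := gl [(0,0,1),(6,6,1)] [(0,0,1),(6,6,1)] (by decide +kernel) (by decide +kernel)
def h2 := gl [(1,1,1),(5,5,1)] [(1,1,1),(5,5,1)] (by decide +kernel) (by decide +kernel)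
def h3 := gl [(2,2,1),(4,4,1)] [(2,2,1),(4,4,1)] (by decide +kernel) (by decide +kernel)

theorem a0_mem : a0 ∈ O := mem_O _ (by decide +kernel)
theorem b0_mem : b0 ∈ O := mem_O _ (by decide +kernel)
theorem c0_mem : c0 ∈ O := mem_O _ (by decide +kernel)
theorem k0_mem : k0 ∈ O := mem_O _ (by decide +kernel)
theorem h1_mem : h1 ∈ O := mem_O _ (by decide +kernel)
theorem h2_mem : h2 ∈ O := mem_O _ (by decide +kernel)
theorem h3_mem : h3 ∈ O := mem_O _ (by decide +kernel)

def r0 := gl [(0,2,1),(4,6,2)] [(0,2,2),(4,6,1)] (by decide +kernel) (by decide +kernel)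
def s0 := gl [(1,3,2),(1,4,2),(1,5,2),(2,5,1),(3,5,2)] [(1,3,1),(1,4,1),(1,5,2),(2,5,2),(3,5,1)]
  (by decide +kernel) (by decide +kernel)
def u0 := gl [(0,5,1),(1,6,2)] [(0,5,2),(1,6,1)] (by decide +kernel) (by decide +kernel)

theorem e_a : h1 * a0 = a0 * a0 * h1 := Units.ext (by decide +kernel)
theorem e_b : h2 * b0 = b0 * b0 * h2 := Units.ext (by decide +kernel)
theorem e_c : h3 * c0 = c0 * c0 * h3 := Units.ext (by decide +kernel)
theorem e_k : h1 * k0 = k0 * k0 * h1 := Units.ext (by decide +kernel)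
theorem e_r : a0 * b0 = r0 * b0 * a0 := Units.ext (by decide +kernel)
theorem e_s : c0 * b0 = s0 * b0 * c0 := Units.ext (by decide +kernel)
theorem e_u : r0 * s0 = u0 * s0 * r0 := Units.ext (by decide +kernel)
theorem e_uk : u0 * k0 ≠ k0 * u0 := fun h => absurd (congrArg Units.val h) (by decide +kernel)

theorem comm_eq {G : Type*} [Group G] {x y z : G} (h : x * y = z * y * x) : ⁅x, y⁆ = z := by
  rw [commutatorElement_def, h]; group

/-- the matrices `1 + n` with `n` strictly upper triangular -/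
def upS : Submonoid (Matrix.GeneralLinearGroup J (ZMod 3)) where
  carrier := {g | ∀ i j, ((g : M) - 1) i j ≠ 0 → ix i < ix j}
  one_mem' := by intro i j h; simp at h
  mul_mem' := by
    intro g h hg hh i j hij
    have e : ((g * h : Matrix.GeneralLinearGroup J (ZMod 3)) : M) - 1 =
        ((g : M) - 1) * ((h : M) - 1) + ((g : M) - 1) + ((h : M) - 1) := by
      rw [Units.val_mul]; noncomm_ring
    rw [e, Matrix.add_apply, Matrix.add_apply] at hij
    by_contra hc
    have h1 : ((g : M) - 1) i j = 0 := by by_contra h0; exact hc (hg i j h0)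
    have h2 : ((h : M) - 1) i j = 0 := by by_contra h0; exact hc (hh i j h0)
    rw [h1, h2, add_zero, add_zero, Matrix.mul_apply] at hij
    obtain ⟨k, -, hk⟩ := Finset.exists_ne_zero_of_sum_ne_zero hij
    exact hc ((hg i k (left_ne_zero_of_mul hk)).trans (hh k j (right_ne_zero_of_mul hk)))

theorem pow_zero_of (n : M) (h : ∀ i j, n i j ≠ 0 → ix i < ix j) (k : ℕ) : ∀ i j, (n ^ k) i j ≠ 0 → ix i + k ≤ ix j := by
  induction k with
  | zero =>
    intro i j hij
    rw [pow_zero] at hij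
    have : i = j := by by_contra h0; exact hij (Matrix.one_apply_ne h0)
    rw [this, add_zero]
  | succ k ih =>
    intro i j hij
    rw [pow_succ, Matrix.mul_apply] at hij
    obtain ⟨l, -, hl⟩ := Finset.exists_ne_zero_of_sum_ne_zero hij
    have h1 := ih i l (left_ne_zero_of_mul hl)
    have h2 := h l j (right_ne_zero_of_mul hl)
    omega

theorem pow_nine (g : Matrix.GeneralLinearGroup J (ZMod 3)) (hg : g ∈ upS) : g ^ 9 = 1 := by
  apply Units.ext
  rw [Units.val_pow_eq_pow_val, Units.val_one]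
  have h0 : ((g : M) - 1) ^ 9 = 0 := by
    ext i j
    by_contra h
    have h1 := pow_zero_of _ hg 9 i j h
    have h2 := ix_le j
    omega
  have h1 : ((g : M) - 1) ^ 3 ^ 2 = (g : M) ^ 3 ^ 2 - 1 ^ 3 ^ 2 :=
    sub_pow_char_pow_of_commute 3 2 (Commute.one_right _)
  rw [one_pow] at h1
  have h2 : ((g : M) - 1) ^ 3 ^ 2 = 0 := h0
  rw [h2] at h1
  exact (sub_eq_zero.1 h1.symm)

/-- the group of the matrices `1 + n` with `n` strictly upper triangular -/
def up : Subgroup (Matrix.GeneralLinearGroup J (ZMod 3)) where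
  __ := upS
  inv_mem' := by
    intro g hg
    have h : g⁻¹ = g ^ 8 := by
      rw [inv_eq_iff_mul_eq_one, ← pow_succ']
      exact pow_nine g hg
    rw [h]
    exact pow_mem (S := upS) hg 8

theorem mem_up (g : Matrix.GeneralLinearGroup J (ZMod 3))
    (h : ∀ x : J × J, (g : M) x.1 x.2 = (1 : M) x.1 x.2 ∨ ix x.1 < ix x.2) : g ∈ up :=
  fun i j hij => (h (i, j)).resolve_left (fun h0 => hij (by rw [Matrix.sub_apply, h0, sub_self]))

theorem mem_upa : a0 ∈ up := mem_up _ (by decide +kernel)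
theorem mem_upb : b0 ∈ up := mem_up _ (by decide +kernel)
theorem mem_upc : c0 ∈ up := mem_up _ (by decide +kernel)

theorem up_pgroup : IsPGroup 3 up := by
  rintro ⟨g, hg⟩
  refine ⟨2, Subtype.ext ?_⟩
  simpa using pow_nine g hg

def wmk (h x : Matrix.GeneralLinearGroup J (ZMod 3)) (hh : h ∈ O) (hx : x ∈ O) : W :=
  ⟨⁅(⟨h, hh⟩ : O), ⟨x, hx⟩⁆, commutator_mem_commutator (mem_top _) (mem_top _)⟩

/-- the embedding of `Ω₇(3)` in the general linear group -/
def emb : W →* Matrix.GeneralLinearGroup J (ZMod 3) := O.subtype.comp W.subtype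

theorem emb_injective : Function.Injective emb := O.subtype_injective.comp W.subtype_injective

theorem emb_wmk (h x : Matrix.GeneralLinearGroup J (ZMod 3)) (hh : h ∈ O) (hx : x ∈ O) (e : h * x = x * x * h) :
    emb (wmk h x hh hx) = x := comm_eq e

theorem dd3_o7 : DD 3 (POmega (ZMod 3) (quadFormOdd 3 (ZMod 3))) := by
  let a : W := wmk h1 a0 h1_mem a0_mem
  let b : W := wmk h2 b0 h2_mem b0_mem
  let c : W := wmk h3 c0 h3_mem c0_mem
  let k : W := wmk h1 k0 h1_mem k0_mem
  have ea : emb a = a0 := emb_wmk _ _ _ _ e_a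
  have eb : emb b = b0 := emb_wmk _ _ _ _ e_b
  have ec : emb c = c0 := emb_wmk _ _ _ _ e_c
  have ek : emb k = k0 := emb_wmk _ _ _ _ e_k
  have hp : IsPGroup 3 (up.comap emb) := up_pgroup.comap_of_injective emb emb_injective
  have hu : emb ⁅⁅a, b⁆, ⁅c, b⁆⁆ = u0 := by
    rw [map_commutatorElement, map_commutatorElement, map_commutatorElement, ea, eb, ec, comm_eq e_r, comm_eq e_s,
      comm_eq e_u]
  refine DD.of_mem ((up.comap emb).map (QuotientGroup.mk' (center W))) (hp.map _)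
    (mem_map_of_mem _ (x := a) ?_) (mem_map_of_mem _ (x := b) ?_) (mem_map_of_mem _ (x := c) ?_)
    (mem_map_of_mem _ (x := b) ?_) ?_
  · rw [mem_comap, ea]
    exact mem_upa
  · rw [mem_comap, eb]
    exact mem_upb
  · rw [mem_comap, ec]
    exact mem_upc
  · rw [mem_comap, eb]
    exact mem_upb
  · rw [← map_commutatorElement, ← map_commutatorElement, ← map_commutatorElement]
    intro h
    have h1 : ⁅⁅a, b⁆, ⁅c, b⁆⁆ ∈ center W := (QuotientGroup.eq_one_iff _).1 h
    have h2 := congrArg emb (mem_center_iff.1 h1 k)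
    rw [map_mul, map_mul, hu, ek] at h2
    exact e_uk h2.symm

end Cfsg.Agent.H492.HT.Omega
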